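import Mathlib
import Cfsg.Prelude.Def_Transfer
import Cfsg.Prelude.Def_LocalStructure
import Cfsg.Agent.Lib.Supersolvable.MinNormal
import Cfsg.Agent.Lib.SZ.Card

/-!
An element of prime order `p` acting irreducibly on an elementary abelian `q`-group.
-/

namespace Cfsg.Agent.Lib.H66

open Subgroup
open scoped Pointwise

theorem card_eq_pow_orderOf_of_irreducible {M : Type*} [AddCommGroup M] [Finite M] [Nontrivial M]
    {p q : ℕ} [hp : Fact p.Prime] [hq : Fact q.Prime] (hqp : q ≠ p) (hM : ∀ m : M, q • m = 0)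
    (σ : AddMonoid.End M) (h1 : σ ≠ 1) (hσ : σ ^ p = 1)
    (hirr : ∀ K : AddSubgroup M, (∀ m ∈ K, σ m ∈ K) → K = ⊥ ∨ K = ⊤) :
    Nat.card M = q ^ orderOf (q : ZMod p) := by
  classical
  set S := Subring.closure ({σ} : Set (AddMonoid.End M)) with hS
  letI : CommRing S := Subring.closureCommRingOfComm (by simp)
  haveI : Finite (AddMonoid.End M) :=
    Finite.of_injective (fun f : AddMonoid.End M => (f : M → M)) DFunLike.coe_injective
  let σS : S := ⟨σ, Subring.subset_closure (Set.mem_singleton σ)⟩
  have hcomm : ∀ f ∈ S, f * σ = σ * f := fun f hf => congrArg Subtype.val (mul_comm (⟨f, hf⟩ : S) σS)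
  have hcomm' : ∀ f ∈ S, ∀ m : M, σ (f m) = f (σ m) := fun f hf m =>
    (DFunLike.congr_fun (hcomm f hf) m).symm
  have hinj : ∀ f ∈ S, f ≠ 0 → ∀ m : M, f m = 0 → m = 0 := by
    intro f hf hf0 m hm
    rcases hirr (AddMonoidHom.ker f) (fun k hk => by
      change f k = 0 at hk
      show f (σ k) = 0
      have := hcomm' f hf k
      rw [hk, map_zero] at this
      exact this.symm) with h | h
    · have : m ∈ AddMonoidHom.ker f := hm
      rw [h] at this
      exact this
    · exact absurd (DFunLike.ext _ _ fun k => by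
        have : k ∈ AddMonoidHom.ker f := h ▸ AddSubgroup.mem_top k
        exact this) hf0
  obtain ⟨a₀, ha₀⟩ := exists_ne (0 : M)
  haveI : Nontrivial S := ⟨⟨0, 1, fun h => ha₀ (DFunLike.congr_fun (congrArg Subtype.val h) a₀).symm⟩⟩
  haveI : NoZeroDivisors S := by
    refine ⟨fun {f g} hfg => ?_⟩
    by_contra h
    push Not at h
    have h2 : (g : AddMonoid.End M) a₀ = 0 := hinj f.1 f.2 (fun e => h.1 (Subtype.ext e)) _
      (DFunLike.congr_fun (congrArg Subtype.val hfg) a₀)
    exact ha₀ (hinj g.1 g.2 (fun e => h.2 (Subtype.ext e)) _ h2)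
  haveI : IsDomain S := NoZeroDivisors.to_isDomain S
  letI := Fintype.ofFinite S
  letI : Field S := Fintype.fieldOfDomain S
  have hbij : Function.Bijective (fun f : S => (f : AddMonoid.End M) a₀) := by
    refine ⟨fun f g h => ?_, fun m => ?_⟩
    · by_contra hne
      refine ha₀ (hinj _ (Subring.sub_mem _ f.2 g.2) (fun e => hne (Subtype.ext (sub_eq_zero.1 e))) a₀ ?_)
      exact sub_eq_zero.2 h
    · let ev : S →+ M := AddMonoidHom.mk' (fun f => (f : AddMonoid.End M) a₀) (fun _ _ => rfl)
      rcases hirr ev.range (by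
        rintro _ ⟨f, rfl⟩
        exact ⟨σS * f, rfl⟩) with h | h
      · have h1 : ev 1 ∈ ev.range := ⟨1, rfl⟩
        rw [h] at h1
        exact absurd h1 ha₀
      · have h1 := AddSubgroup.mem_top m
        rw [← h] at h1
        exact h1
  have hqS : (q : S) = 0 := by
    refine Subtype.ext (DFunLike.ext _ _ fun m => ?_)
    show ((q : S) : AddMonoid.End M) m = 0
    have e : ((q : S) : AddMonoid.End M) = (q : AddMonoid.End M) := map_natCast S.subtype q
    rw [e, AddMonoid.End.natCast_apply, hM]
  haveI : CharP S q := (CharP.charP_iff_prime_eq_zero hq.out).2 hqS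
  obtain ⟨n, -, hn⟩ := FiniteField.card S q
  rw [← Nat.card_congr (Equiv.ofBijective _ hbij), Nat.card_eq_fintype_card, hn]
  congr 1
  set e := orderOf (q : ZMod p) with he
  have hqp0 : (q : ZMod p) ≠ 0 := fun h =>
    hqp ((Nat.prime_dvd_prime_iff_eq hp.out hq.out).1 ((ZMod.natCast_eq_zero_iff q p).1 h)).symm
  have he0 : 0 < e := orderOf_pos_iff.2 (isOfFinOrder_iff_pow_eq_one.2
    ⟨p - 1, Nat.sub_pos_of_lt hp.out.one_lt, ZMod.pow_card_sub_one_eq_one hqp0⟩)
  have hσS1 : σS ≠ 1 := fun h => h1 (congrArg Subtype.val h)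
  have hσSp : σS ^ p = 1 := Subtype.ext (by rw [SubmonoidClass.coe_pow]; exact hσ)
  have hord : orderOf σS = p := orderOf_eq_prime hσSp hσS1
  have hdiv : e ∣ (n : ℕ) := by
    have h0 : σS ≠ 0 := fun h => by rw [h, zero_pow hp.out.ne_zero] at hσSp; exact zero_ne_one hσSp
    have h2 : p ∣ q ^ (n : ℕ) - 1 := by
      rw [← hord, ← hn]
      exact orderOf_dvd_of_pow_eq_one (FiniteField.pow_card_sub_one_eq_one σS h0)
    refine orderOf_dvd_of_pow_eq_one ?_
    rw [← sub_eq_zero, ← Nat.cast_pow, ← Nat.cast_one, ← Nat.cast_sub (Nat.one_le_pow _ _ hq.out.pos),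
      ZMod.natCast_eq_zero_iff]
    exact h2
  have hfix : ∀ f : S, f ^ q ^ e = f := by
    have hσfix : σS ^ q ^ e = σS := by
      have hm : q ^ e ≡ 1 [MOD p] := by
        rw [← ZMod.natCast_eq_natCast_iff]
        push_cast
        exact pow_orderOf_eq_one (q : ZMod p)
      have h2 := pow_mod_orderOf σS (q ^ e)
      rw [hord, show q ^ e % p = 1 % p from hm, Nat.mod_eq_of_lt hp.out.one_lt, pow_one] at h2
      exact h2.symm
    let K : Subring S :=
      { carrier := {f | f ^ q ^ e = f}
        mul_mem' := fun {a b} (ha : a ^ q ^ e = a) (hb : b ^ q ^ e = b) => by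
          show (a * b) ^ q ^ e = a * b
          rw [mul_pow, ha, hb]
        one_mem' := one_pow _
        add_mem' := fun {a b} (ha : a ^ q ^ e = a) (hb : b ^ q ^ e = b) => by
          show (a + b) ^ q ^ e = a + b
          rw [add_pow_char_pow, ha, hb]
        zero_mem' := zero_pow (pow_ne_zero _ hq.out.ne_zero)
        neg_mem' := fun {a} (ha : a ^ q ^ e = a) => by
          show (-a) ^ q ^ e = -a
          have h := add_pow_char_pow a (-a) q e
          rw [add_neg_cancel, zero_pow (pow_ne_zero _ hq.out.ne_zero), ha] at h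
          exact eq_neg_of_add_eq_zero_right h.symm }
    intro f
    obtain ⟨f, hf⟩ := f
    revert hf
    intro hf
    induction hf using Subring.closure_induction with
    | mem x hx =>
      obtain rfl : x = σ := hx
      exact hσfix
    | zero => exact K.zero_mem
    | one => exact K.one_mem
    | add a b ha hb iha ihb => exact K.add_mem iha ihb
    | neg a ha iha => exact K.neg_mem iha
    | mul a b ha hb iha ihb => exact K.mul_mem iha ihb
  have hle : (n : ℕ) ≤ e := by
    have hne := FiniteField.X_pow_card_pow_sub_X_ne_zero (K' := S) he0.ne' hq.out.one_lt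
    have h2 := Polynomial.card_le_degree_of_subset_roots
      (p := (Polynomial.X ^ q ^ e - Polynomial.X : Polynomial S)) (Z := Finset.univ) (by
        intro f _
        rw [Polynomial.mem_roots hne]
        simp [hfix f])
    rw [FiniteField.X_pow_card_pow_sub_X_natDegree_eq (K' := S) he0.ne' hq.out.one_lt,
      Finset.card_univ, hn] at h2
    exact (Nat.pow_le_pow_iff_right hq.out.one_lt).1 h2
  exact le_antisymm hle (Nat.le_of_dvd n.pos hdiv)

variable {G : Type*} [Group G] [Finite G] {p : ℕ} [hp : Fact p.Prime]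

theorem sup_zpowers_of_prime_index {A : Subgroup G} (hidx : A.index = p) {x : G} (hx : x ∉ A) :
    A ⊔ zpowers x = ⊤ := by
  rcases (Nat.dvd_prime hp.out).1 (hidx ▸ index_dvd_of_le (le_sup_left : A ≤ A ⊔ zpowers x)) with h | h
  · exact index_eq_one.1 h
  · exfalso
    apply hx
    have e1 := (A ⊔ zpowers x).card_mul_index
    have e2 := A.card_mul_index
    rw [h] at e1
    rw [hidx] at e2
    rw [eq_of_le_of_card_ge (le_sup_left : A ≤ A ⊔ zpowers x)
      (Nat.eq_of_mul_eq_mul_right hp.out.pos (e1.trans e2.symm)).le]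
    exact mem_sup_right (mem_zpowers x)

theorem card_eq_of_minimal_prime_index {q : ℕ} (hq : q.Prime) (hqp : q ≠ p)
    (hna : ¬ IsMulCommutative G) (A : Subgroup G) [hAn : A.Normal]
    (hA : Cfsg.IsElementaryAbelian q A) (hidx : A.index = p)
    (hmin : ∀ B : Subgroup G, B.Normal → B ≤ A → B = ⊥ ∨ B = A) :
    Nat.card A = q ^ orderOf (q : ZMod p) := by
  haveI := Fact.mk hq
  haveI := hA.1
  have hAt : A ≠ ⊤ := fun h => by rw [h, index_top] at hidx; exact hp.out.ne_one hidx.symm
  obtain ⟨x, hx⟩ : ∃ x, x ∉ A := by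
    by_contra h; push Not at h; exact hAt ((eq_top_iff' A).2 h)
  have hgen := sup_zpowers_of_prime_index hidx hx
  have hxp : x ^ p ∈ A := hidx ▸ A.pow_index_mem x
  have hcommA : ∀ a ∈ A, ∀ b ∈ A, a * b = b * a := fun a ha b hb =>
    congrArg Subtype.val (mul_comm' (⟨a, ha⟩ : A) ⟨b, hb⟩)
  have hAb : A ≠ ⊥ := by
    rintro rfl
    rw [index_bot] at hidx
    haveI := isCyclic_of_prime_card hidx
    letI := IsCyclic.commGroup (α := G)
    exact hna ⟨⟨mul_comm⟩⟩
  letI : CommGroup A := { (inferInstance : Group A) with mul_comm := fun a b => mul_comm' a b }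
  let σ : AddMonoid.End (Additive A) :=
    AddMonoidHom.mk' (fun m => Additive.ofMul
      (⟨x * (Additive.toMul m : A) * x⁻¹, hAn.conj_mem _ (Additive.toMul m).2 x⟩ : A))
      (fun m m' => by
        apply Additive.toMul.injective
        apply Subtype.ext
        show x * ((Additive.toMul m : A) * (Additive.toMul m' : A) : A) * x⁻¹ = _
        simp [mul_assoc])
  have hσk : ∀ (k : ℕ) (m : Additive A),
      ((Additive.toMul ((σ ^ k) m) : A) : G) = x ^ k * (Additive.toMul m : A) * (x ^ k)⁻¹ := by
    intro k m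
    induction k with
    | zero => simp
    | succ k ih =>
      rw [pow_succ']
      show x * ((Additive.toMul ((σ ^ k) m) : A) : G) * x⁻¹ = _
      rw [ih, pow_succ']; group
  haveI : Nontrivial A := (nontrivial_iff_ne_bot A).2 hAb
  have h1 : σ ≠ 1 := by
    intro h
    apply hna
    have hcx : ∀ a ∈ A, x * a = a * x := by
      intro a ha
      have h2 : x * a * x⁻¹ = a :=
        congrArg (fun m => ((Additive.toMul m : A) : G)) (DFunLike.congr_fun h (Additive.ofMul (⟨a, ha⟩ : A)))
      calc x * a = (x * a * x⁻¹) * x := by group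
        _ = _ := by rw [h2]
    have key : A ⊔ zpowers x ≤ centralizer ((A ⊔ zpowers x : Subgroup G) : Set G) := by
      refine sup_le ?_ ?_
      · rw [le_centralizer_iff]
        refine sup_le (fun b hb => ?_) (zpowers_le.2 ?_)
        · exact mem_centralizer_iff.2 fun a ha => hcommA a ha b hb
        · exact mem_centralizer_iff.2 fun a ha => (hcx a ha).symm
      · rw [le_centralizer_iff]
        refine sup_le (fun b hb => ?_) (zpowers_le.2 ?_)
        · refine mem_centralizer_iff.2 fun c hc => ?_
          obtain ⟨k, rfl⟩ := hc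
          exact ((show Commute b x from (hcx b hb).symm).zpow_right k).eq.symm
        · refine mem_centralizer_iff.2 fun c hc => ?_
          obtain ⟨k, rfl⟩ := hc
          exact ((Commute.refl x).zpow_left k).eq
    rw [hgen] at key
    exact ⟨⟨fun a b => (mem_centralizer_iff.1 (key (mem_top b))) a (mem_top a)⟩⟩
  have hσp : σ ^ p = 1 := by
    refine DFunLike.ext _ _ fun m => ?_
    apply Additive.toMul.injective
    apply Subtype.ext
    rw [hσk, hcommA _ hxp _ (Additive.toMul m).2, mul_inv_cancel_right]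
    rfl
  have hirr : ∀ K : AddSubgroup (Additive A), (∀ m ∈ K, σ m ∈ K) → K = ⊥ ∨ K = ⊤ := by
    intro K hK
    set B : Subgroup G := (AddSubgroup.toSubgroup' K).map A.subtype with hB
    have hBA : B ≤ A := map_subtype_le _
    have hBA' : A ≤ normalizer (B : Set G) := by
      intro a ha
      rw [mem_normalizer_iff]
      intro b
      constructor
      · intro hb; rw [hcommA a ha b (hBA hb), mul_inv_cancel_right]; exact hb
      · intro hb
        have hbA : b ∈ A := by
          simpa [mul_assoc] using A.mul_mem (A.mul_mem (A.inv_mem ha) (hBA hb)) ha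
        rwa [hcommA a ha b hbA, mul_inv_cancel_right] at hb
    have hxn : x ∈ normalizer (B : Set G) := by
      refine mem_normalizer_iff_map_conj_eq.2 (eq_of_le_of_card_ge ?_ ?_)
      · rintro _ ⟨_, ⟨b, hb, rfl⟩, rfl⟩
        exact ⟨_, hK _ hb, rfl⟩
      · exact (card_map_of_injective (MulEquiv.injective _)).ge
    have hn : B.Normal := by
      rw [← normalizer_eq_top_iff, eq_top_iff, ← hgen]
      exact sup_le hBA' (zpowers_le.2 hxn)
    rcases hmin B hn hBA with h | h
    · left
      rw [hB, map_eq_bot_iff_of_injective _ A.subtype_injective] at h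
      rw [eq_bot_iff]
      intro m hm
      have : (Additive.toMul m : A) ∈ AddSubgroup.toSubgroup' K := hm
      rw [h, mem_bot] at this
      exact AddSubgroup.mem_bot.2 (Additive.toMul.injective this)
    · right
      rw [eq_top_iff]
      intro m _
      have hm' : ((Additive.toMul m : A) : G) ∈ B := by rw [h]; exact (Additive.toMul m).2
      obtain ⟨b, hb, hbm⟩ := hm'
      obtain rfl : b = Additive.toMul m := Subtype.ext hbm
      exact hb
  have h := card_eq_pow_orderOf_of_irreducible (M := Additive A) hqp (fun m => by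
    apply Additive.toMul.injective
    apply Subtype.ext
    simpa using hA.2 _ (Additive.toMul m).2) σ h1 hσp hirr
  rwa [Nat.card_congr Additive.toMul] at h

/-- An element of order `p` acting nontrivially on a minimal normal `p'`-subgroup `A`, all proper
invariant subgroups of which it centralises: `A` is elementary abelian of order `q^(ord_p q)`. -/
theorem structure_of_proper_centralized (A : Subgroup G) [hAn : A.Normal] (hpA : ¬ p ∣ Nat.card A)
    (hmin : ∀ B : Subgroup G, B.Normal → B ≤ A → B = ⊥ ∨ B = A) (x : G) (hx : orderOf x = p)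
    (hgen : A ⊔ zpowers x = ⊤) (hnc : ¬ x ∈ centralizer (A : Set G))
    (hprop : ∀ R : Subgroup G, R ≤ A → x ∈ normalizer (R : Set G) → R ⊔ zpowers x ≠ ⊤ →
      x ∈ centralizer (R : Set G)) :
    ∃ q : ℕ, q.Prime ∧ q ≠ p ∧ Nat.card G = p * q ^ orderOf (q : ZMod p) ∧
      ∃ A : Subgroup G, A.Normal ∧ Nat.card ↥A = q ^ orderOf (q : ZMod p) ∧
        Cfsg.IsElementaryAbelian q A ∧ ∀ B : Subgroup G, B.Normal → B ≤ A → B = ⊥ ∨ B = A := by
  have hzp : Nat.card (zpowers x) = p := by rw [Nat.card_zpowers, hx]
  have hinf : zpowers x ⊓ A = ⊥ := by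
    rcases (Nat.dvd_prime hp.out).1 (hzp ▸ card_dvd_of_le (inf_le_left : zpowers x ⊓ A ≤ _)) with h | h
    · exact card_eq_one.1 h
    · exact absurd (h ▸ card_dvd_of_le (inf_le_right : zpowers x ⊓ A ≤ A)) hpA
  have hcard : Nat.card G = p * Nat.card A := by
    have h := Cfsg.Agent.Lib.SZ.card_sup_mul_card_inf (zpowers x) A
    rw [sup_comm, hgen, card_top, hinf, card_bot, mul_one, hzp] at h
    exact h
  have hidx : A.index = p := by
    have h := A.card_mul_index
    rw [hcard, mul_comm] at h
    exact Nat.eq_of_mul_eq_mul_right Nat.card_pos h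
  have hfrat : ∀ r : ℕ, r.Prime → ∃ R : Subgroup G, R ≤ A ∧ x ∈ normalizer (R : Set G) ∧
      Nat.card R = r ^ (Nat.card A).factorization r := by
    intro r hr
    haveI := Fact.mk hr
    obtain ⟨S⟩ : Nonempty (Sylow r A) := inferInstance
    set R := (S : Subgroup A).map A.subtype with hR
    have hfr := Sylow.normalizer_sup_eq_top S
    rw [← hR] at hfr
    set N := normalizer (R : Set G) with hN
    have hdvd : p ∣ Nat.card N := by
      have h := Cfsg.Agent.Lib.SZ.card_sup_mul_card_inf N A
      rw [hfr, card_top, hcard, mul_assoc] at h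
      exact (hp.out.dvd_mul.1 ⟨_, h.symm⟩).resolve_right hpA
    obtain ⟨y, hy⟩ := exists_prime_orderOf_dvd_card' p hdvd
    have hY : ∀ z : G, orderOf z = p →
        Nat.card (zpowers z) = p ^ (Nat.card G).factorization p := fun z hz => by
      rw [Nat.card_zpowers, hz, hcard, Nat.factorization_mul hp.out.ne_zero Nat.card_pos.ne',
        Finsupp.add_apply, hp.out.factorization_self, Nat.factorization_eq_zero_of_not_dvd hpA,
        add_zero, pow_one]
    rw [← Subgroup.orderOf_coe] at hy
    obtain ⟨g, hg⟩ := MulAction.exists_smul_eq G (Sylow.ofCard _ (hY _ hy)) (Sylow.ofCard _ (hY x hx))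
    have hg' : MulAut.conj g • zpowers (y : G) = zpowers x := by
      have := congrArg (fun S : Sylow p G => (S : Subgroup G)) hg
      simpa [Sylow.coe_subgroup_smul, Sylow.coe_ofCard] using this
    refine ⟨R.map (MulAut.conj g).toMonoidHom, ?_, ?_, ?_⟩
    · rintro _ ⟨b, hb, rfl⟩
      exact hAn.conj_mem b (map_subtype_le _ hb) g
    · obtain ⟨z, hz, hzx⟩ := hg'.symm ▸ mem_zpowers x
      have hzN : z ∈ N := zpowers_le.2 y.2 hz
      rw [← hzx, mem_normalizer_iff_map_conj_eq]
      have e := mem_normalizer_iff_map_conj_eq.1 hzN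
      show ((R.map (MulAut.conj g).toMonoidHom).map _) = _
      rw [Subgroup.map_map]
      conv_rhs => rw [← e, Subgroup.map_map]
      congr 1
      ext a
      show (g * z * g⁻¹) * (g * a * g⁻¹) * (g * z * g⁻¹)⁻¹ = g * (z * a * z⁻¹) * g⁻¹
      group
    · rw [card_map_of_injective (MulEquiv.injective _), hR,
        card_map_of_injective A.subtype_injective, S.card_eq_multiplicity]
  have key : ∃ r, r.Prime ∧ IsPGroup r A := by
    by_contra hne
    apply hnc
    have hsub : Nat.card A ∣ Nat.card (A ⊓ centralizer ({x} : Set G) : Subgroup G) := by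
      rw [← Nat.factorization_le_iff_dvd Nat.card_pos.ne' Nat.card_pos.ne']
      intro r
      by_cases hr : r.Prime
      · obtain ⟨R, hRA, hxR, hRc⟩ := hfrat r hr
        have hne' : R ⊔ zpowers x ≠ ⊤ ∨ R = ⊥ := by
          by_cases hRb : R = ⊥
          · exact Or.inr hRb
          refine Or.inl fun htop => hne ?_
          have hn : R.Normal := by
            rw [← normalizer_eq_top_iff, eq_top_iff, ← htop]
            exact sup_le le_normalizer (zpowers_le.2 hxR)
          haveI := Fact.mk hr
          refine ⟨r, hr, ?_⟩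
          rw [← (hmin R hn hRA).resolve_left hRb]
          exact IsPGroup.of_card hRc
        have hle : R ≤ A ⊓ centralizer ({x} : Set G) := by
          refine le_inf hRA ?_
          intro b hb
          rcases hne' with h | h
          · exact mem_centralizer_singleton_iff.2 (mem_centralizer_iff.1 (hprop R hRA hxR h) b hb)
          · subst h
            rw [mem_bot.1 hb]
            exact one_mem _
        exact (hr.pow_dvd_iff_le_factorization Nat.card_pos.ne').1 (hRc ▸ card_dvd_of_le hle)
      · rw [Nat.factorization_eq_zero_of_not_prime _ hr]; exact Nat.zero_le _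
    have := eq_of_le_of_card_ge (inf_le_left : A ⊓ centralizer ({x} : Set G) ≤ A)
      (Nat.le_of_dvd Nat.card_pos hsub)
    rw [mem_centralizer_iff]
    intro a ha
    exact mem_centralizer_singleton_iff.1 ((this.symm ▸ ha : a ∈ A ⊓ centralizer ({x} : Set G))).2
  obtain ⟨r, hr, hrA⟩ := key
  haveI := Fact.mk hr
  have hAb : A ≠ ⊥ := by
    rintro rfl
    refine hnc (mem_centralizer_iff.2 fun a ha => ?_)
    rw [SetLike.mem_coe, mem_bot] at ha
    simp [ha]
  haveI := hrA.isNilpotent
  haveI := Cfsg.Agent.Lib.Supersolvable.isMulCommutative_of_minimal hAb hmin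
  obtain ⟨q, hq, hqA, hexp⟩ := Cfsg.Agent.Lib.Supersolvable.exists_prime_exponent hAb hmin
  have hqp : q ≠ p := by
    rintro rfl
    rcases hqA.card_eq_or_dvd with h | h
    · exact hAb (card_eq_one.1 h)
    · exact hpA h
  have hnaG : ¬ IsMulCommutative G := fun h =>
    hnc (mem_centralizer_iff.2 fun a _ => h.1.1 a x)
  have hE : Cfsg.IsElementaryAbelian q A := ⟨inferInstance, hexp⟩
  have hcA := card_eq_of_minimal_prime_index hq hqp hnaG A hE hidx hmin
  exact ⟨q, hq, hqp, by rw [hcard, hcA], A, hAn, hcA, hE, hmin⟩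

end Cfsg.Agent.Lib.H66
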