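import Mathlib

/-!
# Minimal covers by nilpotent subgroups

If a finite group with trivial centre has a minimal cover by nilpotent subgroups and an abelian
Sylow `p`-subgroup, then every non-trivial `p`-element lies in exactly one member of the cover.
-/

set_option autoImplicit false
set_option linter.style.haveILetI false
set_option linter.unusedSectionVars false

namespace Cfsg.Agent.Lib.H66.NilpotentCover

open Subgroup

variable {G : Type*} [Group G] [Finite G]

/-- A minimal cover by proper subgroups. -/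
def IsMinCover (𝓐 : Finset (Subgroup G)) : Prop :=
  ((∀ A ∈ 𝓐, A ≠ ⊤) ∧ (∀ g : G, ∃ A ∈ 𝓐, g ∈ A)) ∧
    ∀ 𝓑 : Finset (Subgroup G), (∀ A ∈ 𝓑, A ≠ ⊤) ∧ (∀ g : G, ∃ A ∈ 𝓑, g ∈ A) → 𝓐.card ≤ 𝓑.card

/-- A proper subgroup contains at most one member of a minimal cover. -/
theorem IsMinCover.eq_of_le {𝓐 : Finset (Subgroup G)} (h : IsMinCover 𝓐) {H A B : Subgroup G}
    (hH : H ≠ ⊤) (hA : A ∈ 𝓐) (hB : B ∈ 𝓐) (hAH : A ≤ H) (hBH : B ≤ H) : A = B := by
  classical
  by_contra hne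
  have hcov : (∀ C ∈ insert H (𝓐.filter fun C => ¬ C ≤ H), C ≠ ⊤) ∧
      ∀ g : G, ∃ C ∈ insert H (𝓐.filter fun C => ¬ C ≤ H), g ∈ C := by
    refine ⟨fun C hC => ?_, fun g => ?_⟩
    · rcases Finset.mem_insert.mp hC with rfl | hC
      · exact hH
      · exact h.1.1 C (Finset.mem_filter.mp hC).1
    · obtain ⟨C, hC, hg⟩ := h.1.2 g
      by_cases hCH : C ≤ H
      · exact ⟨H, Finset.mem_insert_self _ _, hCH hg⟩
      · exact ⟨C, Finset.mem_insert_of_mem (Finset.mem_filter.mpr ⟨hC, hCH⟩), hg⟩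
  have h1 := h.2 _ hcov
  have h2 := Finset.card_insert_le H (𝓐.filter fun C => ¬ C ≤ H)
  have h3 := Finset.card_filter_add_card_filter_not (s := 𝓐) (fun C => C ≤ H)
  have h4 : 2 ≤ (𝓐.filter fun C => C ≤ H).card :=
    Finset.one_lt_card.mpr ⟨A, Finset.mem_filter.mpr ⟨hA, hAH⟩, B,
      Finset.mem_filter.mpr ⟨hB, hBH⟩, hne⟩
  omega

variable {p : ℕ} [hp : Fact p.Prime]

/-- A nilpotent subgroup centralises its `p`-elements, if `p`-subgroups are abelian. -/
theorem le_centralizer_of_pElement (P : Sylow p G) (hab : IsMulCommutative (P : Subgroup G))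
    {A : Subgroup G} (hA : Group.IsNilpotent A) {z : G} (hz : z ∈ A) {k : ℕ} (hzk : z ^ p ^ k = 1) :
    A ≤ Subgroup.centralizer ({z} : Set G) := by
  classical
  haveI := hA
  have hnorm : ∀ (q : ℕ) [Fact q.Prime] (Q : Sylow q A), (Q : Subgroup A).Normal := fun q _ Q =>
    Sylow.normal_of_normalizerCondition Group.normalizerCondition_of_isNilpotent Q
  set C : Subgroup A := Subgroup.centralizer ({(⟨z, hz⟩ : A)} : Set A) with hC
  have key : ∀ (q : ℕ) [Fact q.Prime] (Q : Sylow q A), (Q : Subgroup A) ≤ C := by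
    intro q _ Q a ha
    rw [hC, mem_centralizer_singleton_iff]
    obtain ⟨S, hS⟩ := (IsPGroup.of_card (p := p) (G := zpowers (⟨z, hz⟩ : A)) (n := _)
      (Nat.card_zpowers _ |>.trans ((Nat.dvd_prime_pow hp.out).mp
        (orderOf_dvd_of_pow_eq_one (Subtype.ext hzk : (⟨z, hz⟩ : A) ^ p ^ k = 1))).choose_spec.2)).exists_le_sylow
    have hzS : (⟨z, hz⟩ : A) ∈ (S : Subgroup A) := hS (mem_zpowers _)
    by_cases hqp : q = p
    · subst hqp
      haveI := Sylow.unique_of_normal S (hnorm q S)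
      have haS : a ∈ (S : Subgroup A) := (Subsingleton.elim Q S) ▸ ha
      obtain ⟨T, hT⟩ := (S.2.map A.subtype).exists_le_sylow
      have e := Sylow.equiv P T
      have hc := e.symm.injective (a₁ := ⟨_, hT ⟨a, haS, rfl⟩⟩ * ⟨_, hT ⟨_, hzS, rfl⟩⟩)
        (a₂ := ⟨_, hT ⟨_, hzS, rfl⟩⟩ * ⟨_, hT ⟨a, haS, rfl⟩⟩)
        (by rw [map_mul, map_mul]; exact hab.is_comm.comm _ _)
      exact Subtype.ext (congrArg (fun t : (T : Subgroup G) => (t : G)) hc)
    · exact (Subgroup.commute_of_normal_of_disjoint _ _ (hnorm q Q) (hnorm p S)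
        (IsPGroup.disjoint_of_ne q p hqp _ _ Q.2 S.2) a _ ha hzS).eq
  have htop : C = ⊤ := by
    refine Subgroup.eq_top_of_card_eq C (Nat.dvd_antisymm (card_subgroup_dvd_card C) ?_)
    rw [Nat.dvd_iff_prime_pow_dvd_dvd]
    intro q j hq hj
    haveI : Fact q.Prime := ⟨hq⟩
    obtain ⟨Q⟩ := (inferInstance : Nonempty (Sylow q A))
    refine dvd_trans ?_ (Subgroup.card_dvd_of_le (key q Q))
    rw [Sylow.card_eq_multiplicity]
    exact pow_dvd_pow q ((hq.pow_dvd_iff_le_factorization Nat.card_pos.ne').mp hj)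
  intro a ha
  have : (⟨a, ha⟩ : A) ∈ C := by rw [htop]; trivial
  rw [hC, mem_centralizer_singleton_iff] at this
  exact mem_centralizer_singleton_iff.mpr (congrArg Subtype.val this)

variable (hZ : Subgroup.center G = ⊥) {𝓐 : Finset (Subgroup G)} (h𝓐 : IsMinCover 𝓐)
  (hnil : ∀ A ∈ 𝓐, Group.IsNilpotent A)

include hZ h𝓐 hnil in
/-- A non-trivial `p`-element lies in a unique member. -/
theorem eq_of_mem (P : Sylow p G) (hab : IsMulCommutative (P : Subgroup G))
    {A B : Subgroup G} (hA : A ∈ 𝓐) (hB : B ∈ 𝓐) {z : G} {k : ℕ} (hzk : z ^ p ^ k = 1) (hz1 : z ≠ 1)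
    (hzA : z ∈ A) (hzB : z ∈ B) : A = B := by
  refine h𝓐.eq_of_le ?_ hA hB (le_centralizer_of_pElement P hab (hnil A hA) hzA hzk)
    (le_centralizer_of_pElement P hab (hnil B hB) hzB hzk)
  intro htop
  have : z ∈ Subgroup.center G := by
    rw [Subgroup.mem_center_iff]
    intro g
    exact mem_centralizer_singleton_iff.mp (htop ▸ Subgroup.mem_top g)
  rw [hZ, Subgroup.mem_bot] at this
  exact hz1 this

include hZ h𝓐 hnil in
/-- An abelian Sylow subgroup that is cyclic or not elementary lies in a member. -/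
theorem exists_sylow_le (P : Sylow p G) (hab : IsMulCommutative (P : Subgroup G))
    (h : IsCyclic (P : Subgroup G) ∨ ∃ x ∈ (P : Subgroup G), x ^ p ≠ 1) :
    ∃ A ∈ 𝓐, (P : Subgroup G) ≤ A := by
  rcases h with h | ⟨x, hx, hxp⟩
  · obtain ⟨g, hg⟩ := h.exists_generator
    obtain ⟨A, hA, hgA⟩ := h𝓐.1.2 (g : G)
    refine ⟨A, hA, fun w hw => ?_⟩
    obtain ⟨n, hn⟩ := mem_zpowers_iff.mp (hg ⟨w, hw⟩)
    have := congrArg Subtype.val hn
    simp only [Subgroup.coe_zpow] at this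
    rw [← this]; exact zpow_mem hgA n
  · obtain ⟨A, hA, hxA⟩ := h𝓐.1.2 x
    refine ⟨A, hA, ?_⟩
    obtain ⟨kx, hkx⟩ := P.2 ⟨x, hx⟩
    have hkx' : x ^ p ^ kx = 1 := congrArg Subtype.val hkx
    have hord : ∀ y ∈ (P : Subgroup G), y ^ p = 1 → y ∈ A := by
      intro y hy hyp
      obtain ⟨B, hB, hxyB⟩ := h𝓐.1.2 (x * y)
      have hcomm : Commute x y := congrArg Subtype.val (hab.is_comm.comm ⟨x, hx⟩ ⟨y, hy⟩)
      have hzB : x ^ p ∈ B := by
        have := pow_mem hxyB p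
        rwa [hcomm.mul_pow, hyp, mul_one] at this
      have hzk : (x ^ p) ^ p ^ kx = 1 := by rw [← pow_mul, mul_comm, pow_mul, hkx', one_pow]
      have hBA := eq_of_mem hZ h𝓐 hnil P hab hB hA hzk hxp hzB (pow_mem hxA p)
      subst hBA
      have := mul_mem (inv_mem hxA) hxyB
      rwa [inv_mul_cancel_left] at this
    intro w hw
    by_cases hw1 : w = 1
    · rw [hw1]; exact one_mem _
    obtain ⟨B, hB, hwB⟩ := h𝓐.1.2 w
    obtain ⟨n, hn⟩ := P.2 ⟨w, hw⟩
    have hn' : w ^ p ^ n = 1 := congrArg Subtype.val hn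
    obtain ⟨m, -, hm⟩ := (Nat.dvd_prime_pow hp.out).mp (orderOf_dvd_of_pow_eq_one hn')
    rcases m with _ | m
    · rw [pow_zero, orderOf_eq_one_iff] at hm; exact absurd hm hw1
    have hu1 : w ^ p ^ m ≠ 1 := fun hu => by
      have := Nat.le_of_dvd (pow_pos hp.out.pos m) (orderOf_dvd_of_pow_eq_one hu)
      rw [hm] at this
      exact absurd this (not_le.mpr (Nat.pow_lt_pow_succ hp.out.one_lt))
    have hup : (w ^ p ^ m) ^ p ^ 1 = 1 := by
      rw [← pow_mul, pow_one, ← pow_succ, ← hm, pow_orderOf_eq_one]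
    have := eq_of_mem hZ h𝓐 hnil P hab hB hA hup hu1 (pow_mem hwB _)
      (hord _ (pow_mem hw _) (by simpa using hup))
    exact this ▸ hwB

theorem mem_of_mem_normalizer (P : Sylow p G) {z : G}
    (hz : z ∈ Subgroup.normalizer ((P : Subgroup G) : Set G)) {k : ℕ} (hzk : z ^ p ^ k = 1) :
    z ∈ (P : Subgroup G) := by
  obtain ⟨j, -, hj⟩ := (Nat.dvd_prime_pow hp.out).mp (orderOf_dvd_of_pow_eq_one hzk)
  have hpg : IsPGroup p (zpowers z) := IsPGroup.of_card (n := j) (by rw [Nat.card_zpowers, hj])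
  have : zpowers z ⊓ Subgroup.normalizer ((P : Subgroup G) : Set G) = zpowers z ⊓ (P : Subgroup G) :=
    hpg.inf_normalizer_sylow P
  rw [inf_eq_left.mpr (zpowers_le.mpr hz)] at this
  exact (inf_eq_left.mp this.symm) (mem_zpowers z)

include hZ h𝓐 hnil in
/-- The member containing an abelian Sylow subgroup is its centraliser. -/
theorem centralizer_eq (P : Sylow p G) (hab : IsMulCommutative (P : Subgroup G)) (hP : (P : Subgroup G) ≠ ⊥)
    {A : Subgroup G} (hA : A ∈ 𝓐) (hPA : (P : Subgroup G) ≤ A) :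
    Subgroup.centralizer ((P : Subgroup G) : Set G) = A := by
  refine le_antisymm (fun y hy => ?_) (fun a ha => mem_centralizer_iff.mpr fun x hx => ?_)
  · obtain ⟨z, hz, hz1⟩ := Subgroup.ne_bot_iff_exists_ne_one.mp hP |> fun ⟨z, hz⟩ =>
      (⟨(z : G), z.2, fun h => hz (Subtype.ext h)⟩ : ∃ z, z ∈ (P : Subgroup G) ∧ z ≠ 1)
    obtain ⟨kz, hkz⟩ := P.2 ⟨z, hz⟩
    have hkz' : z ^ p ^ kz = 1 := congrArg Subtype.val hkz
    set n := orderOf y with hn
    have hn0 : n ≠ 0 := (orderOf_pos y).ne'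
    set a := p ^ n.factorization p
    set b := n / a
    have hab' : a * b = n := Nat.ordProj_mul_ordCompl_eq_self n p
    have hya : y ^ a ∈ A := by
      obtain ⟨B, hB, hzyB⟩ := h𝓐.1.2 (z * y ^ a)
      have hcomm : Commute z (y ^ a) := Commute.pow_right (mem_centralizer_iff.mp hy z hz) a
      have hzb : z ^ b ∈ B := by
        have := pow_mem hzyB b
        rwa [hcomm.mul_pow, ← pow_mul, hab', hn, pow_orderOf_eq_one, mul_one] at this
      have hcop : (p ^ kz).Coprime b := (Nat.coprime_ordCompl hp.out hn0).pow_left _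
      obtain ⟨m, hm⟩ := exists_pow_eq_self_of_coprime (x := z) (n := b)
        ((hcop.coprime_dvd_left (orderOf_dvd_of_pow_eq_one hkz')).symm)
      have hzB : z ∈ B := by rw [← hm]; exact pow_mem hzb m
      have hBA := eq_of_mem hZ h𝓐 hnil P hab hB hA hkz' hz1 hzB (hPA hz)
      subst hBA
      have := mul_mem (inv_mem hzB) hzyB
      rwa [inv_mul_cancel_left] at this
    have hyb : y ^ b ∈ A := by
      refine hPA (mem_of_mem_normalizer P (pow_mem (Subgroup.centralizer_le_normalizer _ hy) b)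
        (k := n.factorization p) ?_)
      rw [← pow_mul, mul_comm, hab', hn, pow_orderOf_eq_one]
    have hcop : a.Coprime b := (Nat.coprime_ordCompl hp.out hn0).pow_left _
    have hgcd := Nat.gcd_eq_gcd_ab a b
    rw [hcop.gcd_eq_one] at hgcd
    have : y ^ ((a : ℤ) * a.gcdA b + (b : ℤ) * a.gcdB b) = y := by rw [← hgcd]; simp
    rw [← this, zpow_add, zpow_mul, zpow_mul, zpow_natCast, zpow_natCast]
    exact mul_mem (zpow_mem hya _) (zpow_mem hyb _)
  · obtain ⟨kx, hkx⟩ := P.2 ⟨x, hx⟩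
    exact (mem_centralizer_singleton_iff.mp
      (le_centralizer_of_pElement P hab (hnil A hA) (hPA hx) (congrArg Subtype.val hkx) ha)).symm

include hZ h𝓐 hnil in
/-- Structure forced by an abelian Sylow subgroup that is cyclic or not elementary. -/
theorem structure_of_sylow (P : Sylow p G) (hab : IsMulCommutative (P : Subgroup G))
    (h : IsCyclic (P : Subgroup G) ∨ ∃ x ∈ (P : Subgroup G), x ^ p ≠ 1)
    (hnn : ¬ (P : Subgroup G).Normal) :
    ∃ A ∈ 𝓐, (P : Subgroup G) ≤ A ∧ Subgroup.centralizer ((P : Subgroup G) : Set G) = A ∧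
      IsCoatom (Subgroup.normalizer ((P : Subgroup G) : Set G)) ∧
      (∀ M : Subgroup G, IsCoatom M → A ≤ M → M = Subgroup.normalizer ((P : Subgroup G) : Set G)) ∧
      (∀ g : G, g ∉ Subgroup.normalizer ((P : Subgroup G) : Set G) →
        ¬ p ∣ Nat.card ↥(Subgroup.normalizer ((P : Subgroup G) : Set G) ⊓
          (Subgroup.normalizer ((P : Subgroup G) : Set G)).map (MulAut.conj g).toMonoidHom)) := by
  obtain ⟨A, hA, hPA⟩ := exists_sylow_le hZ h𝓐 hnil P hab h
  have hPb : (P : Subgroup G) ≠ ⊥ := fun hb => hnn (by rw [hb]; infer_instance)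
  have hAC := centralizer_eq hZ h𝓐 hnil P hab hPb hA hPA
  set N := Subgroup.normalizer ((P : Subgroup G) : Set G) with hN
  have hAN : A ≤ N := hAC ▸ Subgroup.centralizer_le_normalizer _
  -- conjugates
  have hconj : ∀ g : G, g ∉ N → ∃ B ∈ 𝓐, ((g • P : Sylow p G) : Subgroup G) ≤ B ∧
      B = A.map (MulAut.conj g).toMonoidHom ∧ B ≠ A := by
    intro g hg
    have hab' : IsMulCommutative ((g • P : Sylow p G) : Subgroup G) :=
      ⟨⟨fun a b => (P.equivSMul g).symm.injective (by rw [map_mul, map_mul]; exact hab.is_comm.comm _ _)⟩⟩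
    have h' : IsCyclic ((g • P : Sylow p G) : Subgroup G) ∨
        ∃ x ∈ ((g • P : Sylow p G) : Subgroup G), x ^ p ≠ 1 := by
      rcases h with hc | ⟨x, hx, hxp⟩
      · exact Or.inl ((P.equivSMul g).isCyclic.mp hc)
      · refine Or.inr ⟨g * x * g⁻¹, ⟨x, hx, rfl⟩, fun he => hxp ?_⟩
        rwa [conj_pow, mul_inv_eq_one, mul_eq_left] at he
    obtain ⟨B, hB, hgB⟩ := exists_sylow_le hZ h𝓐 hnil (g • P) hab' h'
    have hgb : ((g • P : Sylow p G) : Subgroup G) ≠ ⊥ := fun hb => hPb (by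
      apply Subgroup.eq_bot_of_card_eq
      rw [Nat.card_congr (P.equivSMul g).toEquiv, hb, Subgroup.card_bot])
    have hBC := centralizer_eq hZ h𝓐 hnil (g • P) hab' hgb hB hgB
    refine ⟨B, hB, hgB, ?_, ?_⟩
    · rw [← hBC, ← hAC]
      ext y
      constructor
      · intro hy
        refine ⟨g⁻¹ * y * g, mem_centralizer_iff.mpr fun x hx => ?_, by simp [mul_assoc]⟩
        have := mem_centralizer_iff.mp hy (g * x * g⁻¹) ⟨x, hx, rfl⟩
        calc x * (g⁻¹ * y * g) = g⁻¹ * (g * x * g⁻¹ * y) * g := by group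
          _ = g⁻¹ * y * g * x := by rw [this]; group
      · rintro ⟨c, hc, rfl⟩
        refine mem_centralizer_iff.mpr ?_
        rintro _ ⟨x, hx, rfl⟩
        show g * x * g⁻¹ * (g * c * g⁻¹) = g * c * g⁻¹ * (g * x * g⁻¹)
        calc g * x * g⁻¹ * (g * c * g⁻¹) = g * (x * c) * g⁻¹ := by group
          _ = _ := by rw [mem_centralizer_iff.mp hc x hx]; group
    · rintro rfl
      apply hg
      refine Sylow.smul_eq_iff_mem_normalizer.mp ?_
      apply Sylow.ext
      refine (Subgroup.eq_of_le_of_card_ge (fun z hz => ?_) ?_)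
      · obtain ⟨k, hk⟩ := (g • P).2 ⟨z, hz⟩
        exact mem_of_mem_normalizer P (hAN (hgB hz)) (congrArg Subtype.val hk)
      · exact le_of_eq (Nat.card_congr (P.equivSMul g).toEquiv)
  have hNtop : N ≠ ⊤ := fun ht => hnn (Subgroup.normalizer_eq_top_iff.mp ht)
  have huniq : ∀ M : Subgroup G, M ≠ ⊤ → A ≤ M → M ≤ N := by
    intro M hM hAM g hg
    by_contra hgN
    obtain ⟨B, hB, -, hBmap, hBne⟩ := hconj g hgN
    refine hBne (h𝓐.eq_of_le hM hB hA ?_ hAM)
    rw [hBmap]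
    rintro _ ⟨a, ha, rfl⟩
    exact mul_mem (mul_mem hg (hAM ha)) (inv_mem hg)
  refine ⟨A, hA, hPA, hAC, ⟨hNtop, fun M hM => ?_⟩,
    fun M hM hAM => ?_, fun g hg hdvd => ?_⟩
  · by_contra ht
    exact hM.not_ge (huniq M ht (hAN.trans hM.le))
  · rcases eq_or_lt_of_le (huniq M hM.1 hAM) with heq | hlt
    · exact heq
    · exact absurd (hM.2 _ hlt) hNtop
  · obtain ⟨⟨z, hzN, w, hw, hwz⟩, hz⟩ := exists_prime_orderOf_dvd_card' p hdvd
    rw [← Subgroup.orderOf_coe] at hz
    simp only at hz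
    have hzk : z ^ p ^ 1 = 1 := by rw [pow_one, ← hz, pow_orderOf_eq_one]
    have hz1 : z ≠ 1 := fun h1 => by
      rw [h1, orderOf_one] at hz
      exact hp.out.ne_one hz.symm
    have hwk : w ^ p ^ 1 = 1 := by
      apply (MulAut.conj g).injective
      rw [map_pow, map_one]
      rw [← hzk, ← hwz]
      rfl
    obtain ⟨B, hB, hgB, -, hBne⟩ := hconj g hg
    refine hBne (eq_of_mem hZ h𝓐 hnil P hab hB hA hzk hz1 (hgB ?_) (hPA (mem_of_mem_normalizer P hzN hzk)))
    exact ⟨w, mem_of_mem_normalizer P hw hwk, hwz⟩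

end Cfsg.Agent.Lib.H66.NilpotentCover
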