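import Mathlib
import Cfsg.Prelude.Def_LocalStructure

/-!
Groups all of whose proper subgroups are p-closed.
-/

namespace Cfsg.Agent.Lib.H66

open Subgroup

variable {G : Type*} [Group G] [Finite G] {p : ℕ} [Fact p.Prime]

/-- In a p-closed group two p-subgroups generate a p-subgroup. -/
theorem isPGroup_sup_of_pClosed {K : Subgroup G} (hK : Cfsg.IsPClosed p K) {A B : Subgroup G}
    (hA : IsPGroup p A) (hB : IsPGroup p B) (hAK : A ≤ K) (hBK : B ≤ K) :
    IsPGroup p (A ⊔ B : Subgroup G) := by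
  obtain ⟨S⟩ : Nonempty (Sylow p K) := inferInstance
  haveI := hK S
  have key : ∀ X : Subgroup G, IsPGroup p X → X ≤ K → X ≤ (S : Subgroup K).map K.subtype := by
    intro X hX hXK
    obtain ⟨Q, hQ⟩ := (hX.comap_of_injective K.subtype K.subtype_injective).exists_le_sylow
    haveI := Sylow.unique_of_normal S (hK S)
    rw [← map_comap_eq_self (f := K.subtype) (show X ≤ K.subtype.range by rwa [range_subtype])]
    rw [Subsingleton.elim S Q]
    exact map_mono hQ
  exact (S.isPGroup'.map _).to_le (sup_le (key A hA hAK) (key B hB hBK))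

theorem lt_normalizer_inf {P D : Subgroup G} (hP : IsPGroup p P) (h : D < P) :
    D < normalizer (D : Set G) ⊓ P := by
  haveI := hP.isNilpotent
  have hd : D.subgroupOf P < ⊤ := lt_top_iff_ne_top.2 fun ht => h.not_ge (subgroupOf_eq_top.1 ht)
  have h2 := Group.normalizerCondition_of_isNilpotent (D.subgroupOf P) hd
  rw [← subgroupOf_normalizer_eq h.le] at h2
  refine lt_of_le_of_ne (le_inf le_normalizer h.le) fun he => h2.ne ?_
  conv_lhs => rw [he]
  rw [inf_subgroupOf_right]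

theorem sylow_TI_of_subgroups_pClosed [IsSimpleGroup G]
    (hnc : ¬ Cfsg.IsPClosed p G) (hsub : ∀ H : Subgroup G, H ≠ ⊤ → Cfsg.IsPClosed p ↥H)
    (P Q : Sylow p G) (hPQ : P ≠ Q) : (P : Subgroup G) ⊓ (Q : Subgroup G) = ⊥ := by
  by_contra hne
  obtain ⟨⟨A, B⟩, ⟨hAB, hAB0⟩, hmax⟩ : ∃ x : Sylow p G × Sylow p G,
      (x.1 ≠ x.2 ∧ (x.1 : Subgroup G) ⊓ (x.2 : Subgroup G) ≠ ⊥) ∧
      ∀ y : Sylow p G × Sylow p G,
        (y.1 ≠ y.2 ∧ (y.1 : Subgroup G) ⊓ (y.2 : Subgroup G) ≠ ⊥) →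
        Nat.card ((y.1 : Subgroup G) ⊓ (y.2 : Subgroup G) : Subgroup G) ≤
        Nat.card ((x.1 : Subgroup G) ⊓ (x.2 : Subgroup G) : Subgroup G) := by
    obtain ⟨x, hx, hm⟩ := Set.Finite.exists_maximalFor
      (fun x : Sylow p G × Sylow p G =>
        Nat.card ((x.1 : Subgroup G) ⊓ (x.2 : Subgroup G) : Subgroup G))
      {x | x.1 ≠ x.2 ∧ (x.1 : Subgroup G) ⊓ (x.2 : Subgroup G) ≠ ⊥} (Set.toFinite _)
      ⟨(P, Q), hPQ, hne⟩
    exact ⟨x, hx, fun y hy => (le_total _ _).elim (fun h => h) (fun h => hm hy h)⟩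
  set D := (A : Subgroup G) ⊓ (B : Subgroup G) with hD
  have hnA : ¬ (A : Subgroup G) ≤ D := fun h =>
    hAB (Sylow.ext (A.is_maximal' B.isPGroup' (h.trans inf_le_right)).symm)
  have hnB : ¬ (B : Subgroup G) ≤ D := fun h =>
    hAB (Sylow.ext (B.is_maximal' A.isPGroup' (h.trans inf_le_left)))
  have hA := lt_normalizer_inf A.isPGroup' (lt_of_le_not_ge inf_le_left hnA : D < A)
  have hB := lt_normalizer_inf B.isPGroup' (lt_of_le_not_ge inf_le_right hnB : D < B)
  have hN : normalizer (D : Set G) ≠ ⊤ := by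
    intro h
    rcases (normalizer_eq_top_iff.1 h).eq_bot_or_eq_top with h | h
    · exact hAB0 h
    · exact hnA (h ▸ le_top)
  have hJ := isPGroup_sup_of_pClosed (hsub _ hN) (A.isPGroup'.to_le inf_le_right)
    (B.isPGroup'.to_le inf_le_right) (inf_le_left (b := (A : Subgroup G)))
    (inf_le_left (b := (B : Subgroup G)))
  obtain ⟨R, hR⟩ := hJ.exists_le_sylow
  have key : ∀ S : Sylow p G, D < normalizer (D : Set G) ⊓ (S : Subgroup G) →
      normalizer (D : Set G) ⊓ (S : Subgroup G) ≤ R → S = R := by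
    intro S hS hSR
    by_contra hSR'
    have hlt : D < (S : Subgroup G) ⊓ (R : Subgroup G) := lt_of_lt_of_le hS (le_inf inf_le_right hSR)
    exact hlt.ne (Subgroup.eq_of_le_of_card_ge hlt.le
      (hmax (S, R) ⟨hSR', fun h => not_lt_bot (h ▸ hlt)⟩))
  exact hAB ((key A hA (le_sup_left.trans hR)).trans (key B hB (le_sup_right.trans hR)).symm)

end Cfsg.Agent.Lib.H66
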