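import Mathlib

/-!
Sylow subgroups lying in a unique maximal subgroup.
-/

namespace Cfsg.Agent.Lib.H66

open Subgroup

variable {G : Type*} [Group G] [Finite G] {r : ℕ} [Fact r.Prime]

theorem not_normal_of_inf_simple_ne_bot (T : Subgroup G) (hT : IsSimpleGroup T)
    (hna : ¬ IsMulCommutative T) {R : Subgroup G} (hR : IsPGroup r R) (hR0 : R ⊓ T ≠ ⊥) :
    ¬ (R ⊓ T).Normal ∧ ¬ R.Normal ∨ ¬ T.Normal := by
  by_cases hTn : T.Normal
  · left
    have key : ¬ (R ⊓ T).Normal := by
      intro hn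
      have h2 : ((R ⊓ T).subgroupOf T).Normal := hn.subgroupOf T
      rcases hT.eq_bot_or_eq_top_of_normal _ h2 with h | h
      · rw [subgroupOf_eq_bot, disjoint_iff] at h
        exact hR0 (le_bot_iff.1 (le_of_le_of_eq (le_inf le_rfl inf_le_right) h))
      · rw [subgroupOf_eq_top] at h
        have hp : IsPGroup r T := hR.to_le (h.trans inf_le_left)
        haveI : Nontrivial T := hT.toNontrivial
        haveI := hp.center_nontrivial
        rcases hT.eq_bot_or_eq_top_of_normal (center T) inferInstance with hc | hc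
        · exact absurd hc ((nontrivial_iff_ne_bot _).1 inferInstance)
        · exact hna ⟨⟨fun a b => ((mem_center_iff.1 (hc ▸ mem_top a : a ∈ center T)) b).symm⟩⟩
    exact ⟨key, fun hn => key (normal_inf_normal R T)⟩
  · exact Or.inr hTn

theorem normalizer_ne_top_of_socle (T : Subgroup G) [hTn : T.Normal] (hT : IsSimpleGroup T)
    (hna : ¬ IsMulCommutative T) (R : Sylow r G) (hR0 : (R : Subgroup G) ⊓ T ≠ ⊥) :
    normalizer (((R : Subgroup G) ⊓ T : Subgroup G) : Set G) ≠ ⊤ ∧
      normalizer ((R : Subgroup G) : Set G) ≠ ⊤ := by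
  rcases not_normal_of_inf_simple_ne_bot T hT hna R.isPGroup' hR0 with ⟨h1, h2⟩ | h
  · exact ⟨fun h => h1 (normalizer_eq_top_iff.1 h), fun h => h2 (normalizer_eq_top_iff.1 h)⟩
  · exact absurd hTn h

theorem exists_coatom_ge {H : Subgroup G} (hH : H ≠ ⊤) : ∃ M, IsCoatom M ∧ H ≤ M := by
  rcases eq_top_or_exists_le_coatom H with h | ⟨M, hM, hle⟩
  · exact absurd h hH
  · exact ⟨M, hM, hle⟩

theorem not_dvd_index_of_sylow_le (R : Sylow r G) {M : Subgroup G} (h : (R : Subgroup G) ≤ M) :
    ¬ r ∣ M.index := fun hd => R.not_dvd_index (hd.trans (index_dvd_of_le h))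

theorem exists_conj_sylow_le (R : Sylow r G) {M : Subgroup G} (h : ¬ r ∣ M.index) :
    ∃ g : G, ((g • R : Sylow r G) : Subgroup G) ≤ M := by
  obtain ⟨S⟩ : Nonempty (Sylow r M) := inferInstance
  have hp : IsPGroup r ((S : Subgroup M).map M.subtype) := S.isPGroup'.map _
  obtain ⟨Q, hQ⟩ := hp.exists_le_sylow
  have hcard : Nat.card ((S : Subgroup M).map M.subtype) = Nat.card (Q : Subgroup G) := by
    rw [card_map_of_injective M.subtype_injective, S.card_eq_multiplicity, Q.card_eq_multiplicity,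
      ← M.card_mul_index, Nat.factorization_mul Nat.card_pos.ne' M.index_ne_zero_of_finite,
      Finsupp.add_apply, Nat.factorization_eq_zero_of_not_dvd h, add_zero]
  obtain ⟨g, hg⟩ := MulAction.exists_smul_eq G R Q
  refine ⟨g, ?_⟩
  rw [hg, ← eq_of_le_of_card_ge hQ hcard.ge]
  exact map_subtype_le _

theorem unique_contains_normalizer (T : Subgroup G) [T.Normal] (hT : IsSimpleGroup T)
    (hna : ¬ IsMulCommutative T) (R : Sylow r G) (hR0 : (R : Subgroup G) ⊓ T ≠ ⊥)
    {M : Subgroup G} (hu : ∀ M', IsCoatom M' → (R : Subgroup G) ≤ M' → M' = M) :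
    normalizer ((R : Subgroup G) : Set G) ≤ M := by
  obtain ⟨M', hM', hle⟩ := exists_coatom_ge (normalizer_ne_top_of_socle T hT hna R hR0).2
  rw [← hu M' hM' (le_normalizer.trans hle)]; exact hle

end Cfsg.Agent.Lib.H66
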